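import Groth.Agent.Div21Lib.Stalks
import Groth.Agent.MeroX.DivDim

/-!
# The divisorial part of a closed subscheme
-/

universe u

open CategoryTheory AlgebraicGeometry TopologicalSpace IsLocalRing
open Scheme (IdealSheafData)
open Groth.Agent.Div21Lib

set_option autoImplicit false
set_option linter.style.haveILetI false
set_option backward.isDefEq.respectTransparency false
set_option backward.isDefEq.respectTransparency.types false

namespace Groth.Agent.CartierPart

variable {X : Scheme.{u}}

theorem coheight_succ_le {x y : X} (h : y ⤳ x) (hne : y ≠ x) :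
    Order.coheight y + 1 ≤ Order.coheight x :=
  Order.coheight_add_one_le (lt_of_le_not_ge (show x ≤ y from h) fun h' : y ≤ x =>
    hne (h.antisymm (show x ⤳ y from h')).eq)

theorem coheight_ne_top_of_le_one {x : X} (h : Order.coheight x ≤ 1) : Order.coheight x ≠ ⊤ :=
  ne_top_of_le_ne_top ENat.one_ne_top h

theorem coheight_eq_zero_of_spec {x y : X} (h : y ⤳ x) (hne : y ≠ x) (hx : Order.coheight x ≤ 1) :
    Order.coheight y = 0 := by
  have h1 := (coheight_succ_le h hne).trans hx
  generalize Order.coheight y = c at h1 ⊢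
  cases c with
  | top => simp at h1
  | coe n => norm_cast at h1 ⊢; omega

theorem eq_of_spec_of_coheight_eq {x y : X} (h : y ⤳ x) (hc : Order.coheight y = Order.coheight x)
    (hfin : Order.coheight x ≠ ⊤) : y = x := by
  by_contra hne
  have h1 := coheight_succ_le h hne
  rw [hc] at h1
  exact absurd h1 (not_le.2 (ENat.lt_add_one_iff hfin |>.2 le_rfl))

/-- A closed set all whose maximal points have codimension at least two has no point of codimension at
most one. -/
theorem notMem_of_coheight_le_one {Z' : Set X}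
    (hcodim : ∀ z ∈ Z', (∀ y ∈ Z', y ⤳ z → y = z) → (2 : WithBot ℕ∞) ≤ ringKrullDim (X.presheaf.stalk z))
    {z : X} (hz : Order.coheight z ≤ 1) : z ∉ Z' := fun hm => by
  have key : ∀ w ∈ Z', (∀ y ∈ Z', y ⤳ w → y = w) → ¬ Order.coheight w ≤ 1 := fun w hw hmax hle => by
    have h := hcodim w hw hmax
    rw [ringKrullDim_stalk_eq_coheight] at h
    have h2 : (2 : ℕ∞) ≤ 1 := (WithBot.coe_le_coe.1 h).trans hle
    norm_num at h2
  by_cases hmax : ∀ y ∈ Z', y ⤳ z → y = z
  · exact key z hm hmax hz
  · push Not at hmax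
    obtain ⟨y, hy, hyz, hne⟩ := hmax
    have hy0 := coheight_eq_zero_of_spec hyz hne hz
    refine key y hy (fun w _ hwy => ?_) (by rw [hy0]; exact zero_le_one)
    by_contra hwne
    have := coheight_succ_le hwy hwne
    rw [hy0] at this
    simp at this

/-- Points of codimension one in a closed set without points of codimension zero form a finite set. -/
theorem finite_coheight_one [NoetherianSpace X] {T : Set X} (hT : IsClosed T)
    (h0 : ∀ z ∈ T, Order.coheight z ≠ 0) : {z ∈ T | Order.coheight z ≤ 1}.Finite := by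
  obtain ⟨S, hSf, hSc, hSi, hST⟩ :=
    NoetherianSpace.exists_finite_set_isClosed_irreducible (⟨T, hT⟩ : Closeds X).2
  haveI := hSf.to_subtype
  refine (Set.finite_range fun C : S => (hSi C.1 C.2).genericPoint).subset ?_
  rintro z ⟨hz, hz1⟩
  have hz' : z ∈ T := hz
  rw [show T = ⋃₀ S from hST] at hz'
  obtain ⟨C, hC, hzC⟩ := hz'
  refine ⟨⟨C, hC⟩, ?_⟩
  have hg := (hSi C hC).isGenericPoint_genericPoint (hSc C hC)
  by_contra hne
  refine h0 _ ?_ (coheight_eq_zero_of_spec (hg.specializes hzC) hne hz1)
  rw [show T = ⋃₀ S from hST]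
  exact ⟨C, hC, hg.mem⟩

/-! ### Stalks of ideal sheaves -/

theorem st_mul (I J : X.IdealSheafData) (x : X) : st (I * J) x = st I x * st J x := by
  obtain ⟨U, hx⟩ := exists_affine_mem x
  rw [st_eq _ U hx, st_eq I U hx, st_eq J U hx]
  simp only [CDivEq.stk, IdealSheafData.ideal_mul, Pi.mul_apply, Ideal.map_mul]

theorem st_one (x : X) : st (1 : X.IdealSheafData) x = ⊤ := by
  obtain ⟨U, hx⟩ := exists_affine_mem x
  rw [st_eq _ U hx, CDivEq.stk, show (1 : X.IdealSheafData).ideal U = ⊤ from rfl, Ideal.map_top]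

theorem st_pow (I : X.IdealSheafData) (n : ℕ) (x : X) : st (I ^ n) x = st I x ^ n := by
  induction n with
  | zero => rw [pow_zero, pow_zero, st_one, Ideal.one_eq_top]
  | succ n ih => rw [pow_succ, pow_succ, st_mul, ih]

theorem st_prod {ι : Type*} (s : Finset ι) (I : ι → X.IdealSheafData) (x : X) :
    st (∏ i ∈ s, I i) x = ∏ i ∈ s, st (I i) x := by
  classical
  induction s using Finset.induction with
  | empty => rw [Finset.prod_empty, Finset.prod_empty, st_one, Ideal.one_eq_top]
  | insert a s ha ih => rw [Finset.prod_insert ha, Finset.prod_insert ha, st_mul, ih]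

variable (D : X.IdealSheafData) [IsReduced D.subscheme] {η : X}

theorem isRadical_ideal (U : X.affineOpens) : (D.ideal U).IsRadical := by
  rw [← D.ker_subschemeι_app U, RingHom.ker_eq_comap_bot]
  intro a ha
  obtain ⟨n, hn⟩ := ha
  rw [Ideal.mem_comap, Ideal.mem_bot] at hn ⊢
  rw [map_pow] at hn
  exact IsReduced.eq_zero _ ⟨n, hn⟩

/-- Functions vanishing at the generic point of a reduced closed subscheme vanish on it. -/
theorem mem_st_of_mem_maximal (hη : IsGenericPoint η (D.support : Set X)) {x : X} (h : η ⤳ x)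
    {r : X.presheaf.stalk x} (hr : (X.presheaf.stalkSpecializes h).hom r ∈ maximalIdeal _) :
    r ∈ st D x := by
  obtain ⟨U, hx⟩ := exists_affine_mem x
  letI := X.presheaf.algebra_section_stalk (U := U.1) ⟨x, hx⟩
  haveI := U.2.isLocalization_stalk ⟨x, hx⟩
  obtain ⟨⟨t, w⟩, htw⟩ := IsLocalization.surj (U.2.primeIdealOf ⟨x, hx⟩).asIdeal.primeCompl r
  have hw : IsUnit (X.presheaf.germ U.1 x hx w.1) := IsLocalization.map_units (X.presheaf.stalk x) w
  have htw' : r * X.presheaf.germ U.1 x hx w.1 = X.presheaf.germ U.1 x hx t := htw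
  have hηU : η ∈ U.1 := h.mem_open U.1.2 hx
  have ht : t ∈ D.ideal U := by
    rw [← (isRadical_ideal D U).radical, Ideal.radical_eq_sInf, Ideal.mem_sInf]
    rintro Q ⟨hQ, hQp⟩
    by_contra htQ
    haveI := hQp
    let y := U.2.fromSpec ⟨Q, hQp⟩
    have hyU : y ∈ U.1 := U.2.range_fromSpec.le ⟨_, rfl⟩
    have hyD : y ∈ (D.support : Set X) :=
      (IdealSheafData.mem_support_iff_of_mem (U := U) hyU).2 ((Scheme.mem_zeroLocus_iff _ _ _).2
        fun a ha hay => by
          have h' : (⟨Q, hQp⟩ : Spec Γ(X, U.1)) ∈ U.2.fromSpec ⁻¹ᵁ X.basicOpen a := hay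
          rw [U.2.fromSpec_preimage_basicOpen] at h'
          exact h' (hQ ha))
    have hyt : y ∈ X.basicOpen t := by
      show (⟨Q, hQp⟩ : Spec Γ(X, U.1)) ∈ U.2.fromSpec ⁻¹ᵁ X.basicOpen t
      rw [U.2.fromSpec_preimage_basicOpen]
      exact htQ
    have hηt : η ∈ X.basicOpen t := (hη.specializes hyD).mem_open (X.basicOpen t).2 hyt
    have hu : IsUnit (X.presheaf.germ U.1 η hηU t) := (Scheme.mem_basicOpen _ _ _ hηU).1 hηt
    refine (mem_maximalIdeal _).1 ?_ hu
    have : X.presheaf.germ U.1 η hηU t = (X.presheaf.stalkSpecializes h).hom (r * X.presheaf.germ U.1 x hx w.1) := by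
      rw [htw']
      exact (congrArg (fun φ => φ.hom t) (X.presheaf.germ_stalkSpecializes hx h)).symm
    rw [this, map_mul]
    exact Ideal.mul_mem_right _ _ hr
  have h1 : r * X.presheaf.germ U.1 x hx w.1 ∈ st D x := by
    rw [htw', st_eq D U hx, CDivEq.stk]
    exact Ideal.mem_map_of_mem _ ht
  obtain ⟨v, hv⟩ := hw
  rw [← hv] at h1
  exact (Ideal.mul_unit_mem_iff_mem _ v.isUnit).1 h1

theorem st_generic (hη : IsGenericPoint η (D.support : Set X)) : st D η = maximalIdeal _ := by
  refine le_antisymm (le_maximalIdeal fun h => (notMem_support_iff D η).2 h hη.mem) fun r hr => ?_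
  refine mem_st_of_mem_maximal D hη (specializes_refl η) ?_
  rw [TopCat.Presheaf.stalkSpecializes_refl]
  exact hr

/-- Divisibility by powers of a prime divisor is detected at its generic point. -/
theorem mem_pow_of_generic (hη : IsGenericPoint η (D.support : Set X)) {x : X} (h : η ⤳ x)
    {g : X.presheaf.stalk x} (hg : st D x = Ideal.span {g})
    (hgn : (X.presheaf.stalkSpecializes h).hom g ∈ nonZeroDivisors _) (a : ℕ) (r : X.presheaf.stalk x)
    (hr : (X.presheaf.stalkSpecializes h).hom r ∈ st D η ^ a) : r ∈ st D x ^ a := by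
  have hst : st D η = Ideal.span {(X.presheaf.stalkSpecializes h).hom g} := by
    rw [st_specializes D h, hg, Ideal.map_span, Set.image_singleton]
  induction a generalizing r with
  | zero => rw [pow_zero, Ideal.one_eq_top]; trivial
  | succ a ih =>
    have h1 := ih r (Ideal.pow_le_pow_right (Nat.le_succ a) hr)
    rw [hg, Ideal.span_singleton_pow, Ideal.mem_span_singleton] at h1
    obtain ⟨r', rfl⟩ := h1
    rw [hst, Ideal.span_singleton_pow, Ideal.mem_span_singleton, map_mul, map_pow, pow_succ] at hr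
    obtain ⟨c, hc⟩ := hr
    rw [mul_assoc] at hc
    have h2 := mul_cancel_left_mem_nonZeroDivisors (pow_mem hgn a) |>.1 hc
    have h3 : r' ∈ st D x := mem_st_of_mem_maximal D hη h (by
      rw [← st_generic D hη, hst, Ideal.mem_span_singleton]
      exact ⟨c, h2⟩)
    rw [pow_succ]
    refine Ideal.mul_mem_mul ?_ h3
    rw [hg, Ideal.span_singleton_pow]
    exact Ideal.mem_span_singleton_self _

end Groth.Agent.CartierPart
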