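import Groth.Agent.CartierPart.Basic

/-!
# A closed subscheme contains its divisorial part, with equality outside codimension two
-/

universe u

open CategoryTheory AlgebraicGeometry TopologicalSpace IsLocalRing
open Scheme (IdealSheafData)
open Groth.Agent.Div21Lib

set_option autoImplicit false
set_option linter.style.haveILetI false
set_option backward.isDefEq.respectTransparency false
set_option backward.isDefEq.respectTransparency.types false

namespace Groth.Agent.CartierPart

variable {X : Scheme.{u}}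

/-- An inclusion of stalks of ideal sheaves of finite type holds near the point. -/
theorem eventually_st_le [IsLocallyNoetherian X] (P Z : X.IdealSheafData) {x : X} (h : st P x ≤ st Z x) :
    ∃ W : X.Opens, x ∈ W ∧ ∀ y ∈ W, st P y ≤ st Z y := by
  classical
  obtain ⟨U, hx⟩ := exists_affine_mem x
  haveI : IsNoetherianRing Γ(X, U.1) := IsLocallyNoetherian.component_noetherian U
  obtain ⟨G, hG⟩ := IsNoetherian.noetherian (P.ideal U)
  letI := X.presheaf.algebra_section_stalk (U := U.1) ⟨x, hx⟩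
  haveI := U.2.isLocalization_stalk ⟨x, hx⟩
  have hex : ∀ p ∈ G, ∃ s : Γ(X, U.1), s ∉ (U.2.primeIdealOf ⟨x, hx⟩).asIdeal ∧ s * p ∈ Z.ideal U := by
    intro p hp
    have h1 : algebraMap Γ(X, U.1) (X.presheaf.stalk x) p ∈
        (Z.ideal U).map (algebraMap Γ(X, U.1) (X.presheaf.stalk x)) := by
      have h2 : X.presheaf.germ U.1 x hx p ∈ st P x := by
        rw [st_eq P U hx, CDivEq.stk]
        exact Ideal.mem_map_of_mem _ (hG ▸ Submodule.subset_span hp)
      have h3 := h h2
      rwa [st_eq Z U hx] at h3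
    rw [IsLocalization.algebraMap_mem_map_algebraMap_iff (U.2.primeIdealOf ⟨x, hx⟩).asIdeal.primeCompl] at h1
    obtain ⟨s, hs, hsp⟩ := h1
    exact ⟨s, hs, hsp⟩
  choose! s hs hsp using hex
  let S := ∏ p ∈ G, s p
  refine ⟨X.basicOpen S, ?_, fun y hy => ?_⟩
  · rw [Scheme.mem_basicOpen _ _ _ hx, map_prod, IsUnit.prod_iff]
    exact fun p hp => IsLocalization.map_units (X.presheaf.stalk x)
      (⟨s p, hs p hp⟩ : (U.2.primeIdealOf ⟨x, hx⟩).asIdeal.primeCompl)
  · have hyU : y ∈ U.1 := X.basicOpen_le S hy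
    rw [Scheme.mem_basicOpen _ _ _ hyU, map_prod, IsUnit.prod_iff] at hy
    rw [st_eq P U hyU, st_eq Z U hyU, CDivEq.stk, CDivEq.stk, Ideal.map_le_iff_le_comap, ← hG,
      Submodule.span_le]
    intro p hp
    have h1 : X.presheaf.germ U.1 y hyU (s p * p) ∈ (Z.ideal U).map (X.presheaf.germ U.1 y hyU).hom :=
      Ideal.mem_map_of_mem _ (hsp p hp)
    rw [map_mul] at h1
    obtain ⟨v, hv⟩ := hy p hp
    rw [← hv, Ideal.unit_mul_mem_iff_mem _ v.isUnit] at h1
    exact h1

theorem result [IsNoetherian X] (𝓩 : X.IdealSheafData)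
    {I : Type u} (𝓓 : I → X.IdealSheafData) (hD : ∀ i, BlowUp.IsEffCartierIdeal (𝓓 i))
    (hDint : ∀ i, IsIntegral (𝓓 i).subscheme) (Z' : Set X)
    (hcodim : ∀ z ∈ Z', (∀ y ∈ Z', y ⤳ z → y = z) → (2 : WithBot ℕ∞) ≤ ringKrullDim (X.presheaf.stalk z))
    (hcover : (𝓩.support : Set X) ⊆ Z' ∪ ⋃ i, ((𝓓 i).support : Set X)) :
    ∃ a : I →₀ ℕ, 𝓩 ≤ a.prod (fun i n => 𝓓 i ^ n) ∧
      ∃ U : X.Opens, (a.prod (fun i n => 𝓓 i ^ n)).comap U.ι = 𝓩.comap U.ι ∧
        ∀ z ∈ (𝓩.support : Set X) \ (U : Set X), (2 : WithBot ℕ∞) ≤ ringKrullDim (X.presheaf.stalk z) := by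
  classical
  let η : I → X := fun i => (𝓓 i).subschemeι (genericPoint (𝓓 i).subscheme)
  have hη : ∀ i, IsGenericPoint (η i) ((𝓓 i).support : Set X) := fun i => by
    haveI := hDint i
    have h := (genericPoint_spec (𝓓 i).subscheme).image (𝓓 i).subschemeι.continuous
    rw [Set.image_univ, IdealSheafData.range_subschemeι,
      (𝓓 i).support.isClosed.closure_eq] at h
    exact h
  have hη1 : ∀ i, Order.coheight (η i) = 1 := fun i => by
    have h := MeroX.stalk_dim_eq_one (𝓓 i) (hD i) (η i) (hη i).mem fun y hy hyx =>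
      (hyx.antisymm ((hη i).specializes hy)).eq
    rw [ringKrullDim_stalk_eq_coheight] at h
    exact WithBot.coe_injective h
  have key : ∀ i, ∀ z ∈ ((𝓓 i).support : Set X), Order.coheight z ≤ 1 → z = η i := fun i z hz hz1 => by
    by_contra hne
    have h := coheight_eq_zero_of_spec ((hη i).specializes hz) (Ne.symm hne) hz1
    rw [hη1] at h
    exact one_ne_zero h
  have hsupp : ∀ z ∈ (𝓩.support : Set X), Order.coheight z ≤ 1 → ∃ i, z = η i := fun z hz hz1 => by
    rcases hcover hz with h | h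
    · exact absurd h (notMem_of_coheight_le_one hcodim hz1)
    · obtain ⟨i, hi⟩ := Set.mem_iUnion.1 h
      exact ⟨i, key i z hi hz1⟩
  have h0 : ∀ z ∈ (𝓩.support : Set X), Order.coheight z ≠ 0 := fun z hz h => by
    obtain ⟨i, rfl⟩ := hsupp z hz (h ▸ zero_le_one)
    rw [hη1] at h
    exact one_ne_zero h
  have hfin := finite_coheight_one 𝓩.support.isClosed h0
  let M := {z ∈ (𝓩.support : Set X) | Order.coheight z ≤ 1}
  haveI : Fintype M := hfin.fintype
  choose ρ hρ using fun z : M => hsupp z.1 z.2.1 z.2.2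
  let s : Finset I := Finset.univ.image ρ
  have hsM : ∀ i ∈ s, η i ∈ M := fun i hi => by
    obtain ⟨z, -, rfl⟩ := Finset.mem_image.1 hi
    rw [← hρ]; exact z.2
  have hinj : ∀ i ∈ s, ∀ j ∈ s, η i = η j → i = j := fun i hi j hj e => by
    obtain ⟨z, -, rfl⟩ := Finset.mem_image.1 hi
    obtain ⟨w, -, rfl⟩ := Finset.mem_image.1 hj
    rw [← hρ, ← hρ] at e
    rw [Subtype.ext e]
  have hoff : ∀ i ∈ s, ∀ j ∈ s, i ≠ j → st (𝓓 j) (η i) = ⊤ := fun i hi j hj hne =>
    (notMem_support_iff _ _).1 fun h => hne (hinj i hi j hj (key j (η i) h (hη1 i).le))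
  have hord : ∀ i ∈ s, ∃ n : ℕ, st 𝓩 (η i) = st (𝓓 i) (η i) ^ n := fun i hi => by
    haveI := hDint i
    obtain ⟨g, hgn, hg⟩ := exists_gen (𝓓 i) (hD i) (η i)
    have hm : maximalIdeal _ = Ideal.span {g} := (st_generic (𝓓 i) (hη i)).symm.trans hg
    obtain ⟨hdom, hdvr⟩ := MeroX.isDomain_dvr_of_maximalIdeal g hgn hm
    haveI := hdom
    haveI := hdvr
    have hne : st 𝓩 (η i) ≠ ⊥ := fun hbot => by
      have hnm : ¬ IsMax (η i) := fun h => by
        have := Order.coheight_eq_zero.2 h
        rw [hη1] at this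
        exact one_ne_zero this
      obtain ⟨y, hy⟩ := not_isMax_iff.1 hnm
      have hys : y ⤳ η i := hy.le
      have hy0 := coheight_eq_zero_of_spec hys (fun e => hy.ne e.symm) (hη1 i).le
      refine h0 y (not_not.1 fun hyn => ?_) hy0
      have h1 := (notMem_support_iff 𝓩 y).1 hyn
      rw [st_specializes 𝓩 hys, hbot, Ideal.map_bot] at h1
      exact bot_ne_top h1
    obtain ⟨n, hn⟩ := IsDiscreteValuationRing.ideal_eq_span_pow_irreducible hne
      (IsDiscreteValuationRing.irreducible_of_span_eq_maximalIdeal g (nonZeroDivisors.ne_zero hgn) hm)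
    exact ⟨n, by rw [hn, hg, Ideal.span_singleton_pow]⟩
  choose! n hn using hord
  let a : I →₀ ℕ := Finsupp.indicator s fun i _ => n i
  have ha : ∀ i ∈ s, a i = n i := fun i hi => Finsupp.indicator_of_mem hi _
  have hP : a.prod (fun i m => 𝓓 i ^ m) = ∏ i ∈ s, 𝓓 i ^ n i := by
    rw [Finsupp.prod_of_support_subset a (Finsupp.support_indicator_subset _ _) _ fun i _ => pow_zero _]
    exact Finset.prod_congr rfl fun i hi => by rw [ha i hi]
  have hle : ∀ x, ∀ T : Finset I, T ⊆ s → st 𝓩 x ≤ ∏ i ∈ T, st (𝓓 i) x ^ n i := by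
    intro x T hT
    induction T using Finset.induction with
    | empty => rw [Finset.prod_empty, Ideal.one_eq_top]; exact le_top
    | insert i T hiT ih =>
      rw [Finset.prod_insert hiT]
      have hi : i ∈ s := hT (Finset.mem_insert_self i T)
      have hT' : T ⊆ s := (Finset.subset_insert i T).trans hT
      intro z hz
      by_cases hx : x ∈ ((𝓓 i).support : Set X)
      · haveI := hDint i
        have h := (hη i).specializes hx
        choose g hgn hg using fun j => exists_gen (𝓓 j) (hD j) x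
        have hspan : ∀ T' : Finset I,
            ∏ j ∈ T', st (𝓓 j) x ^ n j = Ideal.span {∏ j ∈ T', g j ^ n j} := fun T' => by
          simp only [hg, Ideal.span_singleton_pow, Ideal.prod_span_singleton]
        have hz' := ih hT' hz
        rw [hspan, Ideal.mem_span_singleton] at hz'
        obtain ⟨z', rfl⟩ := hz'
        have hσn : (X.presheaf.stalkSpecializes h).hom (g i) ∈ nonZeroDivisors _ := by
          obtain ⟨g', hg'n, hg'⟩ := exists_gen (𝓓 i) (hD i) (η i)
          have e : Ideal.span {(X.presheaf.stalkSpecializes h).hom (g i)} = Ideal.span {g'} := by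
            rw [← hg', st_specializes _ h, hg i, Ideal.map_span, Set.image_singleton]
          obtain ⟨c, hc⟩ := Ideal.mem_span_singleton.1 (e.ge (Ideal.mem_span_singleton_self g'))
          exact (mul_mem_nonZeroDivisors.1 (hc ▸ hg'n)).1
        have hG : IsUnit ((X.presheaf.stalkSpecializes h).hom (∏ j ∈ T, g j ^ n j)) := by
          rw [map_prod, IsUnit.prod_iff]
          intro j hj
          rw [map_pow]
          refine IsUnit.pow _ (Ideal.span_singleton_eq_top.1 ?_)
          rw [← Set.image_singleton, ← Ideal.map_span, ← hg j, ← st_specializes _ h]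
          exact hoff i hi j (hT' hj) fun e => hiT (e ▸ hj)
        have hz2 : (X.presheaf.stalkSpecializes h).hom z' ∈ st (𝓓 i) (η i) ^ n i := by
          have h1 : (X.presheaf.stalkSpecializes h).hom ((∏ j ∈ T, g j ^ n j) * z') ∈ st 𝓩 (η i) := by
            rw [st_specializes _ h]
            exact Ideal.mem_map_of_mem _ hz
          rw [hn i hi, map_mul, Ideal.unit_mul_mem_iff_mem _ hG] at h1
          exact h1
        have hz3 := mem_pow_of_generic (𝓓 i) (hη i) h (hg i) hσn (n i) z' hz2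
        rw [mul_comm (st (𝓓 i) x ^ n i)]
        refine Ideal.mul_mem_mul ?_ hz3
        rw [hspan]
        exact Ideal.mem_span_singleton_self _
      · rw [(notMem_support_iff _ _).1 hx, Ideal.top_pow, Ideal.top_mul]
        exact ih hT' hz
  have hle' : ∀ x, st 𝓩 x ≤ st (a.prod fun i m => 𝓓 i ^ m) x := fun x => by
    rw [hP, st_prod]
    simp only [st_pow]
    exact hle x s (Finset.Subset.refl s)
  refine ⟨a, ?_, ⟨interior {x | st (a.prod fun i m => 𝓓 i ^ m) x ≤ st 𝓩 x}, isOpen_interior⟩, ?_, ?_⟩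
  · intro U
    refine CDivEq.le_of_stk _ _ U fun x hx => ?_
    rw [← st_eq _ U hx, ← st_eq _ U hx]
    exact hle' x
  · refine ext_st fun y => ?_
    rw [st_comap, st_comap]
    congr 1
    have hy : y.1 ∈ {x | st (a.prod fun i m => 𝓓 i ^ m) x ≤ st 𝓩 x} := interior_subset y.2
    exact le_antisymm hy (hle' _)
  · rintro z ⟨hz, hzU⟩
    by_contra h2
    rw [ringKrullDim_stalk_eq_coheight] at h2
    have hz1 : Order.coheight z ≤ 1 := by
      generalize Order.coheight z = c at h2 ⊢
      cases c with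
      | top => exact absurd (WithBot.coe_le_coe.2 (le_top : (2 : ℕ∞) ≤ ⊤)) h2
      | coe m =>
        by_contra hm
        refine h2 (WithBot.coe_le_coe.2 ?_)
        norm_cast at hm ⊢
        omega
    obtain ⟨i, hi, rfl⟩ : ∃ i ∈ s, η i = z :=
      ⟨ρ ⟨z, hz, hz1⟩, Finset.mem_image_of_mem _ (Finset.mem_univ _), (hρ ⟨z, hz, hz1⟩).symm⟩
    have heq : st (a.prod fun j m => 𝓓 j ^ m) (η i) ≤ st 𝓩 (η i) := by
      rw [hP, st_prod, Finset.prod_eq_single i (fun j hj hne => ?_) (fun h => absurd hi h), st_pow, hn i hi]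
      rw [st_pow, hoff i hi j hj (Ne.symm hne), Ideal.top_pow, Ideal.one_eq_top]
    obtain ⟨W, hW, hWle⟩ := eventually_st_le _ _ heq
    exact hzU (mem_interior.2 ⟨W, hWle, W.2, hW⟩)

end Groth.Agent.CartierPart
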